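import Groth.Agent.An92.WeilPar.Factorial
import Groth.Agent.ParaF26.Open
import Groth.Agent.Amp73.GlobGen
import Mathlib.AlgebraicGeometry.Noetherian

/-! Normal schemes on which every Weil divisor is principal. -/

set_option autoImplicit false
set_option linter.style.haveILetI false
set_option backward.isDefEq.respectTransparency.types false

noncomputable section

universe u

open CategoryTheory AlgebraicGeometry TopologicalSpace IsLocalRing Opposite
open Groth.Agent.Div89

namespace Groth.Agent.An92.WeilPar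

variable {X : Scheme.{u}} [IsIntegral X] [IsLocallyNoetherian X]

/-- A trivial sheaf of a divisor gives a global equation. -/
theorem principal_of_iso_unit (hX : Pi1.IsNormalScheme X) (D : X → ℤ)
    (hD : ∀ x : X, ∃ N ∈ nhds x, (N ∩ Function.support D).Finite)
    (φ : Ref1.divMod D hX ≅ Coh.structureModule X) :
    ∃ f : X.functionField, f ≠ 0 ∧ ∀ y, Order.coheight y = 1 → D y = Scheme.ord f y := by
  obtain ⟨e, he⟩ := ParaF26.exists_frame_of_iso_unit φ
  obtain ⟨s, hs, hsD⟩ := Ref1.exists_section_divisor hX hD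
  obtain ⟨q, hq⟩ := Ref1.eq_smul_frame he (trivial : genericPoint X ∈ (⊤ : X.Opens)) s
  have hq0 : (q : X.functionField) ≠ 0 := fun h => hs (by
    rw [hq, show q = (0 : X.presheaf.stalk (genericPoint X)) from h, zero_smul])
  exact ⟨q, hq0, fun u hc => by
    rw [← hsD u hc, hq]
    exact Ref1.sord_frame he trivial (trivial : u ∈ (⊤ : X.Opens)) hc q hq0⟩

omit [IsIntegral X] [IsLocallyNoetherian X] in
lemma finite_of_locallyFinite [CompactSpace X] (D : X → ℤ)
    (hD : ∀ x : X, ∃ N ∈ nhds x, (N ∩ Function.support D).Finite) : (Function.support D).Finite := by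
  choose N hN hNfin using hD
  obtain ⟨t, ht⟩ := (isCompact_univ (X := ↥X)).elim_nhds_subcover N fun x _ => hN x
  refine (t.finite_toSet.biUnion fun x _ => hNfin x).subset fun y hy => ?_
  obtain ⟨v, hv, hyv⟩ := Set.mem_iUnion₂.1 (ht.2 (Set.mem_univ y))
  exact Set.mem_biUnion hv ⟨hyv, hy⟩

/-- An invertible module with principal divisors is trivial. -/
theorem iso_unit_of_principal [CompactSpace X] (hX : Pi1.IsNormalScheme X)
    (h : ∀ D : X → ℤ, (Function.support D).Finite → (∀ x, Order.coheight x ≠ 1 → D x = 0) →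
      ∃ f : X.functionField, f ≠ 0 ∧ ∀ y, Order.coheight y = 1 → D y = Scheme.ord f y)
    (L : X.Modules) (hL : PicF.IsInvertible L) : Nonempty (L ≅ Coh.structureModule X) := by
  classical
  have hF : RefHull.IsRef1 L := Ref1.isRef1_of_framed (Amp73.isCoh_of_isInvertible hL)
    (fun x => Ref1.isReflexiveAt_of_framed (Ref1.framed_of_isInvertible hL x))
    (Ref1.framed_of_isInvertible hL _)
  obtain ⟨s, hs⟩ := Ref1.exists_ne_zero hX hF
  let D : X → ℤ := fun x => if Order.coheight x = 1 then Ref1.sord L x s else 0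
  have hD : ∀ x : X, ∃ N ∈ nhds x, (N ∩ Function.support D).Finite := fun x => by
    obtain ⟨V, hxV⟩ := exists_affine_mem x
    refine ⟨V.1, V.1.2.mem_nhds hxV, (Ref1.finite_sord_ne_zero L
      (Ref1.framed_of_isRef1 hX hF (Or.inl rfl)) hs V).subset ?_⟩
    rintro y ⟨hyV, hy⟩
    simp only [D, Function.mem_support, ne_eq, ite_eq_right_iff, Classical.not_imp] at hy
    exact ⟨hyV, hy⟩
  obtain ⟨f, hf, hfD⟩ := h D (finite_of_locallyFinite D hD) fun x hx => if_neg hx
  obtain ⟨o, ho, ho'⟩ := Ref1.exists_unit_section (X := X)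
  have hO := Ref1.isRef1_structureModule (X := X)
  have hof : (f : X.presheaf.stalk (genericPoint X)) • o ≠ 0 := fun h0 => hf
    ((Ref1.smul_bijective_of_ne_zero (Ref1.framed_of_isRef1 hX hO (Or.inl rfl)) ho).1
      (h0.trans (zero_smul _ o).symm))
  refine Ref1.iso_of_sord hX hF hO hs hof fun x hc => ?_
  rw [Ref1.sord_smul (Ref1.framed_of_isRef1 hX hO (Or.inr hc)) hc ho f hf, ho' x hc, add_zero, ← hfD x hc]
  exact (if_pos hc).symm

omit [IsIntegral X] [IsLocallyNoetherian X] in
theorem iso_unit_of_isEmpty [IsEmpty X] (L : X.Modules) : Nonempty (L ≅ Coh.structureModule X) := by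
  have hsub : ∀ (M : X.Modules) (V : X.Opens), Subsingleton Γ(M, V) := fun M V => ⟨fun a b =>
    TopCat.Presheaf.section_ext (⟨M.presheaf, M.isSheaf⟩ : TopCat.Sheaf Ab X) V a b fun y _ => (IsEmpty.false (α := ↥X) y).elim⟩
  have he : Var76.LineBundle.IsFrame L ⊤ (0 : Γ(L, ⊤)) := fun V hV =>
    ⟨fun a b _ => (hsub (Coh.structureModule X) V).elim a b, fun g => ⟨0, (hsub L V).elim _ _⟩⟩
  exact ParaF26.nonempty_iso_unit he

omit [IsLocallyNoetherian X] in
/-- Every nonzero prime of a stalk contains the prime of a codimension one generization. -/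
theorem exists_height_one [IsLocallyNoetherian X] (x : X) (P : Ideal (X.presheaf.stalk x)) (hP : P.IsPrime)
    (hP0 : P ≠ ⊥) : ∃ (y : X) (h : y ⤳ x), Order.coheight y = 1 ∧ (Cyc90.genPrime h).asIdeal ≤ P := by
  obtain ⟨a, haP, ha0⟩ := Submodule.exists_mem_ne_zero_of_ne_bot hP0
  obtain ⟨Q, hQ, hQP⟩ := Ideal.exists_minimalPrimes_le ((Ideal.span_singleton_le_iff_mem _).2 haP)
  haveI := hQ.1.1
  have haQ : a ∈ Q := hQ.1.2 (Ideal.mem_span_singleton_self a)
  have hQ1 : Q.height = 1 := by
    refine le_antisymm (Ideal.height_le_one_of_isPrincipal_of_mem_minimalPrimes _ _ hQ) ?_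
    rw [Order.one_le_iff_ne_zero, Ne, Ideal.height_eq_zero_iff]
    intro hmin
    have : Q = ⊥ := le_bot_iff.1 (hmin.2 ⟨Ideal.isPrime_bot, le_rfl⟩ bot_le)
    exact ha0 (by simpa [this] using haQ)
  let q : PrimeSpectrum (X.presheaf.stalk x) := ⟨Q, hQ.1.1⟩
  refine ⟨_, Cyc90.fromSpecStalk_specializes q, ?_, ?_⟩
  · rw [coheight_eq_height (Cyc90.fromSpecStalk_specializes q), Cyc90.genPrime_fromSpecStalk]; exact hQ1
  · rw [Cyc90.genPrime_fromSpecStalk]; exact hQP

end Groth.Agent.An92.WeilPar
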